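import Cfsg.Agent.H146.KW.Iface
import Cfsg.Agent.H786.KW.Count
import Cfsg.Agent.H129.CycCard
import Cfsg.Agent.H129.CycRow
import Cfsg.Agent.S0144

/-!
# S4243: isolated tori (helper622)

* `Iso G t m` : the centralizers of the elements of order `t` are cyclic of order dividing `m`
* `Iso.not_dvd` : `t` does not divide the order of a proper subgroup with the Sylow condition (`G` simple)
* `lt_sylow` : `N` a divisor of `|G|` whose primes are isolated with tori of order prime to `s`: `N < |G|_s`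
* `exists_prime` : a non-abelian simple `H` has a prime `s ≠ r`, `5 ≤ s`, or `s = 3` and `5 ≤ r`
-/

set_option autoImplicit false

namespace Cfsg.Agent.H622.KW

open Subgroup Cfsg.Agent.H146.KW

universe u

section Iso

variable {G : Type*} [Group G]

/-- the centralizers of the elements of order `t` are cyclic of order dividing `m` -/
def Iso (G : Type*) [Group G] (t m : ℕ) : Prop :=
  ∀ x : G, orderOf x = t → IsCyclic ↥(centralizer ({x} : Set G)) ∧ Nat.card ↥(centralizer ({x} : Set G)) ∣ m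

theorem Iso.mono {t m m' : ℕ} (h : Iso G t m) (hm : m ∣ m') : Iso G t m' :=
  fun x hx => ⟨(h x hx).1, (h x hx).2.trans hm⟩

theorem Iso.of_cycCard [Finite G] {t m d : ℕ} (ht : t.Prime) (h : H129.CycCard.CycCard G t m d) : Iso G t m := by
  intro x hx
  obtain ⟨C, hc, h0, -, h2, h3⟩ := h
  obtain ⟨f, hf⟩ := H129.CycT.exists_hom hc ht h2 h3 hx
  exact ⟨isCyclic_of_injective f hf.1, (Subgroup.card_dvd_of_injective f hf.1).trans h0⟩

theorem Iso.of_mulEquiv {G' : Type*} [Group G'] (e : G ≃* G') {t m : ℕ} (h : Iso G t m) : Iso G' t m := by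
  intro x hx
  have hx' : orderOf (e.symm x) = t := by rw [MulEquiv.orderOf_eq, hx]
  obtain ⟨h1, h2⟩ := h _ hx'
  have hmem : ∀ y : ↥(centralizer ({x} : Set G')), e.symm (y : G') ∈ centralizer ({e.symm x} : Set G) := by
    intro y
    have := mem_centralizer_singleton_iff.1 y.2
    rw [mem_centralizer_singleton_iff, ← map_mul, ← map_mul, this]
  let f : ↥(centralizer ({x} : Set G')) →* ↥(centralizer ({e.symm x} : Set G)) :=
    { toFun := fun y => ⟨e.symm (y : G'), hmem y⟩
      map_one' := Subtype.ext (map_one e.symm)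
      map_mul' := fun a b => Subtype.ext (map_mul e.symm (a : G') (b : G')) }
  have hf : Function.Injective f := fun a b hab =>
    Subtype.ext (e.symm.injective (congrArg Subtype.val hab))
  exact ⟨isCyclic_of_injective f hf, (Subgroup.card_dvd_of_injective f hf).trans h2⟩

theorem Iso.isCyclic_sylow [Finite G] {t m : ℕ} [ht : Fact t.Prime] (h : Iso G t m) (P : Sylow t G) :
    IsCyclic (P : Subgroup G) := by
  by_cases hP : Nontrivial (P : Subgroup G)
  · have h1 : Nontrivial (center (P : Subgroup G)) := P.isPGroup'.center_nontrivial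
    have h2 : t ∣ Nat.card (center (P : Subgroup G)) := by
      obtain ⟨k, hk⟩ := IsPGroup.iff_card.1 (P.isPGroup'.to_subgroup (center (P : Subgroup G)))
      rw [hk]
      refine dvd_pow_self t ?_
      rintro rfl
      rw [pow_zero] at hk
      exact absurd hk (Finite.one_lt_card).ne'
    obtain ⟨x, hx⟩ := exists_prime_orderOf_dvd_card' (G := center (P : Subgroup G)) t h2
    have hx' : orderOf ((x : (P : Subgroup G)) : G) = t := by
      rw [Subgroup.orderOf_coe, Subgroup.orderOf_coe, hx]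
    obtain ⟨hc, -⟩ := h _ hx'
    have hle : (P : Subgroup G) ≤ centralizer ({((x : (P : Subgroup G)) : G)} : Set G) := by
      intro y hy
      rw [mem_centralizer_singleton_iff]
      exact congrArg Subtype.val ((mem_center_iff.1 x.2) ⟨y, hy⟩)
    exact isCyclic_of_injective (Subgroup.inclusion hle) (Subgroup.inclusion_injective hle)
  · rw [not_nontrivial_iff_subsingleton] at hP
    exact isCyclic_of_subsingleton

theorem Iso.not_dvd [Finite G] [IsSimpleGroup G] {t m : ℕ} (ht : t.Prime) (h : Iso G t m) {H : Subgroup G}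
    (hK : PSubAll H) (hH : H ≠ ⊤) : ¬ t ∣ Nat.card H := by
  intro hd
  have := Fact.mk ht
  exact hH ((hK t).eq_top_of_isCyclic hd fun P => h.isCyclic_sylow P)

theorem Iso.not_dvd_centralizer [Finite G] {t m s : ℕ} (ht : t.Prime) (h : Iso G t m) {z : G}
    (hz : s ∣ orderOf z) (hs : ¬ s ∣ m) : ¬ t ∣ Nat.card (centralizer ({z} : Set G)) := by
  intro hd
  have := Fact.mk ht
  obtain ⟨x, hx⟩ := exists_prime_orderOf_dvd_card' (G := centralizer ({z} : Set G)) t hd
  have hx' : orderOf (x : G) = t := by rw [Subgroup.orderOf_coe, hx]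
  obtain ⟨-, h1⟩ := h _ hx'
  have h2 : z ∈ centralizer ({(x : G)} : Set G) := by
    have := mem_centralizer_singleton_iff.1 x.2
    exact mem_centralizer_singleton_iff.2 this.symm
  exact hs (hz.trans ((Subgroup.orderOf_dvd_natCard _ h2).trans h1))

theorem coprime_of_primes {a b : ℕ} (h : ∀ t : ℕ, t.Prime → t ∣ a → ¬ t ∣ b) : Nat.Coprime a b :=
  Nat.coprime_of_dvd fun t ht ha hb => h t ht ha hb

/-- **the divisor `N` of `|G|` with isolated primes is less than `|G|_s`** -/
theorem lt_sylow {G : Type u} [Group G] [Finite G] [IsSimpleGroup G] {H : Subgroup G} (hK : PSubAll H) (hH : H ≠ ⊤)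
    {s : ℕ} (hs : s.Prime) (hsH : s ∣ Nat.card H) {N : ℕ} (hN : N ∣ Nat.card G)
    (iso : ∀ t, t.Prime → t ∣ N → ∃ m, Iso G t m ∧ ¬ s ∣ m) : N < s ^ (Nat.card G).factorization s := by
  have hs' := Fact.mk hs
  obtain ⟨P⟩ : Nonempty (Sylow s G) := inferInstance
  obtain ⟨y, hy⟩ := exists_prime_orderOf_dvd_card' (G := (H ⊓ P : Subgroup G)) s ((hK s).dvd_card_inf hsH P)
  have hy' : orderOf (y : G) = s := by rw [Subgroup.orderOf_coe, hy]
  have hy1 : (y : G) ≠ 1 := by
    intro h
    rw [h, orderOf_one] at hy'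
    exact hs.one_lt.ne hy'
  have h1 : Nat.Coprime N (Nat.card (centralizer ({(y : G)} : Set G))) := by
    refine coprime_of_primes fun t ht htN => ?_
    obtain ⟨m, hm, hsm⟩ := iso t ht htN
    exact hm.not_dvd_centralizer ht (by rw [hy']) hsm
  have h2 : Nat.Coprime N (Nat.card H) := by
    refine coprime_of_primes fun t ht htN => ?_
    obtain ⟨m, hm, hsm⟩ := iso t ht htN
    exact hm.not_dvd ht hK hH
  have h3 : N ∣ Nat.card {x : G // IsConj (y : G) x} := by
    rw [← Cfsg.Agent.H786.KW.index_eq_card_isConj]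
    rw [← Subgroup.card_mul_index (centralizer ({(y : G)} : Set G))] at hN
    exact h1.dvd_of_dvd_mul_left hN
  have h4 := (hK s).lt_card_sylow y.2.1 hy1 P y.2.2 h3 h2
  have h5 : Nat.card P = s ^ (Nat.card G).factorization s := P.card_eq_multiplicity
  rwa [← h5]

end Iso

section Primes

/-- a number with at most two prime divisors -/
theorem eq_pow_mul_pow {n p q : ℕ} (hn : n ≠ 0) (hpq : p ≠ q)
    (h : ∀ t : ℕ, t.Prime → t ∣ n → t = p ∨ t = q) : n = p ^ n.factorization p * q ^ n.factorization q := by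
  conv_lhs => rw [← Nat.prod_factorization_pow_eq_self hn]
  have hsub : n.factorization.support ⊆ {p, q} := by
    intro t ht
    have h1 := Nat.support_factorization n ▸ ht
    rw [Nat.mem_primeFactors] at h1
    rw [Finset.mem_insert, Finset.mem_singleton]
    exact h t h1.1 h1.2.1
  rw [Finsupp.prod_of_support_subset _ hsub _ (fun i _ => pow_zero i), Finset.prod_pair hpq]

theorem not_two_primes {L : Type*} [Group L] [Finite L] [IsSimpleGroup L] (hna : ¬ IsMulCommutative L) {p q : ℕ}
    (hp : p.Prime) (hq : q.Prime) (hpq : p ≠ q) : ∃ t : ℕ, t.Prime ∧ t ∣ Nat.card L ∧ t ≠ p ∧ t ≠ q := by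
  by_contra hcon
  push Not at hcon
  have h1 := eq_pow_mul_pow (n := Nat.card L) Nat.card_pos.ne' hpq fun t ht hd => by
    by_cases h : t = p
    · exact Or.inl h
    · exact Or.inr (hcon t ht hd h)
  have h2 := S0144.result p q _ _ hp hq h1
  exact hna ⟨⟨IsSimpleGroup.comm_iff_isSolvable.2 h2⟩⟩

/-- a prime divisor `s ≠ r` of the order with `5 ≤ s`, or `s = 3` and `5 ≤ r` -/
theorem exists_prime {L : Type*} [Group L] [Finite L] [IsSimpleGroup L] (hna : ¬ IsMulCommutative L) {r : ℕ}
    (hr : r.Prime) : ∃ s : ℕ, s.Prime ∧ s ∣ Nat.card L ∧ s ≠ r ∧ (5 ≤ s ∨ s = 3 ∧ 5 ≤ r) := by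
  have hge : ∀ s : ℕ, s.Prime → s ≠ 2 → s ≠ 3 → 5 ≤ s := by
    intro s hs h2 h3
    have h1 := hs.two_le
    by_contra hlt
    have h4 : s = 4 := by omega
    rw [h4] at hs
    exact absurd hs (by norm_num)
  by_cases hr2 : r = 2
  · obtain ⟨s, h1, h2, h3, h4⟩ := not_two_primes hna Nat.prime_two Nat.prime_three (by norm_num)
    exact ⟨s, h1, h2, by rw [hr2]; exact h3, Or.inl (hge s h1 h3 h4)⟩
  by_cases hr3 : r = 3
  · obtain ⟨s, h1, h2, h3, h4⟩ := not_two_primes hna Nat.prime_two Nat.prime_three (by norm_num)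
    exact ⟨s, h1, h2, by rw [hr3]; exact h4, Or.inl (hge s h1 h3 h4)⟩
  have hr5 := hge r hr hr2 hr3
  obtain ⟨s, h1, h2, h3, h4⟩ := not_two_primes hna Nat.prime_two hr (Ne.symm hr2)
  refine ⟨s, h1, h2, h4, ?_⟩
  by_cases h5 : s = 3
  · exact Or.inr ⟨h5, hr5⟩
  · exact Or.inl (hge s h1 h3 h5)

end Primes

end Cfsg.Agent.H622.KW
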