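import Cfsg.Agent.H622.KW.Num

/-!
# S4243: the numbers for `F₄(q)` (helper622)

`q = a + 1`
-/

set_option autoImplicit false

namespace Cfsg.Agent.H622.KW

/-- the order of `F₄(q)` in factors -/
theorem f4_factor (a : ℕ) : (a + 1) ^ 24 * ((a + 1) ^ 2 - 1) * ((a + 1) ^ 6 - 1) * ((a + 1) ^ 8 - 1) *
      ((a + 1) ^ 12 - 1) =
    (a + 1) ^ 24 * a ^ 4 * (a + 2) ^ 4 * (a ^ 2 + 3 * a + 3) ^ 2 * (a ^ 2 + 2 * a + 2) ^ 2 * (a ^ 2 + a + 1) ^ 2 *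
      ((a + 1) ^ 4 + 1) * ((a + 1) ^ 2 * (a * (a + 2)) + 1) := by
  have e2 : (a + 1) ^ 2 - 1 = a * (a + 2) := by
    have : (a + 1) ^ 2 = a * (a + 2) + 1 := by ring
    rw [this, Nat.add_sub_cancel]
  have e6 : (a + 1) ^ 6 - 1 = a * (a + 2) * (a ^ 2 + 3 * a + 3) * (a ^ 2 + a + 1) := by
    have : (a + 1) ^ 6 = a * (a + 2) * (a ^ 2 + 3 * a + 3) * (a ^ 2 + a + 1) + 1 := by ring
    rw [this, Nat.add_sub_cancel]
  have e8 : (a + 1) ^ 8 - 1 = a * (a + 2) * (a ^ 2 + 2 * a + 2) * ((a + 1) ^ 4 + 1) := by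
    have : (a + 1) ^ 8 = a * (a + 2) * (a ^ 2 + 2 * a + 2) * ((a + 1) ^ 4 + 1) + 1 := by ring
    rw [this, Nat.add_sub_cancel]
  have e12 : (a + 1) ^ 12 - 1 = a * (a + 2) * (a ^ 2 + 3 * a + 3) * (a ^ 2 + a + 1) * (a ^ 2 + 2 * a + 2) *
      ((a + 1) ^ 2 * (a * (a + 2)) + 1) := by
    have : (a + 1) ^ 12 = a * (a + 2) * (a ^ 2 + 3 * a + 3) * (a ^ 2 + a + 1) * (a ^ 2 + 2 * a + 2) *
      ((a + 1) ^ 2 * (a * (a + 2)) + 1) + 1 := by ring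
    rw [this, Nat.add_sub_cancel]
  rw [e2, e6, e8, e12]
  ring

theorem not_dvd_of_eq {s u v w : ℕ} (e : v = u + w) (hu : s ∣ u) (hw : ¬ s ∣ w) : ¬ s ∣ v := fun h =>
  hw ((Nat.dvd_add_right hu).1 (e ▸ h))

theorem pow_mul_le {x y k : ℕ} (h : x ≤ y) : x ^ k ≤ y ^ k := Nat.pow_le_pow_left h k

/-- the five factors -/
theorem five_bound {a s : ℕ} (hs : s.Prime) (hs2 : s ≠ 2) (ha : 1 ≤ a) (hq : ¬ s ∣ a + 1) :
    sp s a ^ 4 * sp s (a + 2) ^ 4 * sp s (a ^ 2 + 3 * a + 3) ^ 2 * sp s (a ^ 2 + 2 * a + 2) ^ 2 *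
      sp s (a ^ 2 + a + 1) ^ 2 ≤ (if s = 3 then 9 else 1) * (a + 2) ^ 4 := by
  have n2 : ¬ s ∣ 2 := fun h => hs2 ((Nat.prime_dvd_prime_iff_eq hs Nat.prime_two).1 h)
  have n1 : ¬ s ∣ 1 := fun h => hs.one_lt.ne' (Nat.dvd_one.1 h)
  have n3 : s ≠ 3 → ¬ s ∣ 3 := fun h3 h => h3 ((Nat.prime_dvd_prime_iff_eq hs Nat.prime_three).1 h)
  have hle : ∀ {x y : ℕ}, x ≤ y → x ≤ (if s = 3 then 9 else 1) * y := fun {x y} h => by
    split_ifs <;> omega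
  by_cases hA : s ∣ a
  · have hB : ¬ s ∣ a + 2 := not_dvd_of_eq rfl hA n2
    have hD : ¬ s ∣ a ^ 2 + 2 * a + 2 := not_dvd_of_eq (u := a * (a + 2)) (w := 2) (by ring) (hA.mul_right _) n2
    have hE : ¬ s ∣ a ^ 2 + a + 1 := not_dvd_of_eq (u := a * (a + 1)) (w := 1) (by ring) (hA.mul_right _) n1
    rw [sp_eq_one hB, sp_eq_one hD, sp_eq_one hE, one_pow, one_pow, mul_one, mul_one, mul_one]
    have h1 : sp s a ^ 4 ≤ (a + 2) ^ 4 := pow_mul_le ((sp_le (by omega)).trans (by omega))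
    by_cases h3 : s = 3
    · subst h3
      rw [if_pos rfl]
      have h2 : sp 3 (a ^ 2 + 3 * a + 3) ≤ 3 := by
        refine sp_le_of_not_sq hs (by positivity) ?_
        obtain ⟨b, rfl⟩ := hA
        intro h
        have h4 : (3 : ℕ) ^ 2 ∣ 3 ^ 2 * (b ^ 2 + b) + 3 := by
          have : (3 * b) ^ 2 + 3 * (3 * b) + 3 = 3 ^ 2 * (b ^ 2 + b) + 3 := by ring
          rwa [this] at h
        have h5 := (Nat.dvd_add_right (dvd_mul_right _ _)).1 h4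
        exact absurd h5 (by norm_num)
      calc sp 3 a ^ 4 * sp 3 (a ^ 2 + 3 * a + 3) ^ 2 ≤ (a + 2) ^ 4 * 3 ^ 2 :=
            Nat.mul_le_mul h1 (pow_mul_le h2)
        _ = _ := by ring
    · rw [if_neg h3, one_mul]
      have hC : ¬ s ∣ a ^ 2 + 3 * a + 3 := not_dvd_of_eq (u := a * (a + 3)) (w := 3) (by ring) (hA.mul_right _) (n3 h3)
      rw [sp_eq_one hC, one_pow, mul_one]
      exact h1
  rw [sp_eq_one hA, one_pow, one_mul]
  by_cases hB : s ∣ a + 2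
  · have hC : ¬ s ∣ a ^ 2 + 3 * a + 3 := not_dvd_of_eq (u := (a + 2) * (a + 1)) (w := 1) (by ring) (hB.mul_right _) n1
    have hD : ¬ s ∣ a ^ 2 + 2 * a + 2 := not_dvd_of_eq (u := (a + 2) * a) (w := 2) (by ring) (hB.mul_right _) n2
    rw [sp_eq_one hC, sp_eq_one hD, one_pow, mul_one, mul_one]
    have h1 : sp s (a + 2) ^ 4 ≤ (a + 2) ^ 4 := pow_mul_le (sp_le (by omega))
    by_cases h3 : s = 3
    · subst h3
      rw [if_pos rfl]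
      have h2 : sp 3 (a ^ 2 + a + 1) ≤ 3 := by
        refine sp_le_of_not_sq hs (by positivity) ?_
        obtain ⟨b, hb⟩ := hB
        intro h
        obtain ⟨c, rfl⟩ : ∃ c, b = c + 1 := ⟨b - 1, by omega⟩
        obtain rfl : a = 3 * c + 1 := by omega
        have h4 : (3 : ℕ) ^ 2 ∣ 3 ^ 2 * (c ^ 2 + c) + 3 := by
          have : (3 * c + 1) ^ 2 + (3 * c + 1) + 1 = 3 ^ 2 * (c ^ 2 + c) + 3 := by ring
          rwa [this] at h
        have h5 := (Nat.dvd_add_right (dvd_mul_right _ _)).1 h4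
        exact absurd h5 (by norm_num)
      calc sp 3 (a + 2) ^ 4 * sp 3 (a ^ 2 + a + 1) ^ 2 ≤ (a + 2) ^ 4 * 3 ^ 2 :=
            Nat.mul_le_mul h1 (pow_mul_le h2)
        _ = _ := by ring
    · rw [if_neg h3, one_mul]
      have hE : ¬ s ∣ a ^ 2 + a + 1 := fun h => by
        have h4 : ¬ s ∣ (a ^ 2 + a + 1) + (a + 2) :=
          not_dvd_of_eq (u := (a + 2) * a) (w := 3) (by ring) (hB.mul_right _) (n3 h3)
        exact h4 (dvd_add h hB)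
      rw [sp_eq_one hE, one_pow, mul_one]
      exact h1
  rw [sp_eq_one hB, one_pow, one_mul]
  have hpow : ∀ {x : ℕ}, x ≤ (a + 2) ^ 2 → x ^ 2 ≤ (a + 2) ^ 4 := fun {x} h => by
    calc x ^ 2 ≤ ((a + 2) ^ 2) ^ 2 := pow_mul_le h
      _ = _ := by ring
  by_cases hC : s ∣ a ^ 2 + 3 * a + 3
  · have hD : ¬ s ∣ a ^ 2 + 2 * a + 2 := fun h => hq ((Nat.dvd_add_right h).1 (by
      have : a ^ 2 + 2 * a + 2 + (a + 1) = a ^ 2 + 3 * a + 3 := by ring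
      rwa [this]))
    have hE : ¬ s ∣ a ^ 2 + a + 1 := fun h => by
      have h4 : s ∣ 2 * (a + 1) := (Nat.dvd_add_right h).1 (by
        have : a ^ 2 + a + 1 + 2 * (a + 1) = a ^ 2 + 3 * a + 3 := by ring
        rwa [this])
      rcases hs.dvd_mul.1 h4 with h5 | h5
      · exact n2 h5
      · exact hq h5
    rw [sp_eq_one hD, sp_eq_one hE, one_pow, mul_one, mul_one]
    refine hle (hpow ((sp_le (by positivity)).trans ?_))
    nlinarith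
  rw [sp_eq_one hC, one_pow, one_mul]
  by_cases hD : s ∣ a ^ 2 + 2 * a + 2
  · have hE : ¬ s ∣ a ^ 2 + a + 1 := fun h => hq ((Nat.dvd_add_right h).1 (by
      have : a ^ 2 + a + 1 + (a + 1) = a ^ 2 + 2 * a + 2 := by ring
      rwa [this]))
    rw [sp_eq_one hE, one_pow, mul_one]
    refine hle (hpow ((sp_le (by positivity)).trans ?_))
    nlinarith
  rw [sp_eq_one hD, one_pow, one_mul]
  refine hle (hpow ((sp_le (by positivity)).trans ?_))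
  nlinarith

/-- the `s`-part of the order -/
theorem f4_bound {a s : ℕ} (hs : s.Prime) (hs2 : s ≠ 2) (ha : 1 ≤ a) (hq : ¬ s ∣ a + 1)
    (h8 : ¬ s ∣ (a + 1) ^ 4 + 1) (h12 : ¬ s ∣ (a + 1) ^ 2 * (a * (a + 2)) + 1) :
    sp s ((a + 1) ^ 24 * ((a + 1) ^ 2 - 1) * ((a + 1) ^ 6 - 1) * ((a + 1) ^ 8 - 1) * ((a + 1) ^ 12 - 1)) ≤
      (if s = 3 then 9 else 1) * (a + 2) ^ 4 := by
  rw [f4_factor]
  have ha0 : a ≠ 0 := by omega
  have hq24 : sp s ((a + 1) ^ 24) = 1 := sp_eq_one fun h => hq (hs.dvd_of_dvd_pow h)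
  rw [sp_mul (by positivity) (by positivity), sp_mul (by positivity) (by positivity),
    sp_mul (by positivity) (by positivity), sp_mul (by positivity) (by positivity),
    sp_mul (by positivity) (by positivity), sp_mul (by positivity) (by positivity),
    sp_mul (by positivity) (by positivity), sp_eq_one h8, sp_eq_one h12, mul_one, mul_one, hq24, one_mul,
    sp_pow, sp_pow, sp_pow, sp_pow, sp_pow]
  exact five_bound hs hs2 ha hq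

/-- `2 (q + 1) ^ 4 < (q ^ 4 + 1) (q ^ 4 - q ^ 2 + 1)` -/
theorem f4_big {a : ℕ} (ha : 1 ≤ a) :
    2 * (a + 2) ^ 4 ≤ ((a + 1) ^ 4 + 1) * ((a + 1) ^ 2 * (a * (a + 2)) + 1) := by
  obtain ⟨b, rfl⟩ : ∃ b, a = b + 1 := ⟨a - 1, by omega⟩
  have h : ((b + 1 + 1) ^ 4 + 1) * ((b + 1 + 1) ^ 2 * ((b + 1) * (b + 1 + 2)) + 1) =
      2 * (b + 1 + 2) ^ 4 + (b ^ 8 + 16 * b ^ 7 + 111 * b ^ 6 + 436 * b ^ 5 + 1060 * b ^ 4 + 1624 * b ^ 3 +
        1491 * b ^ 2 + 676 * b + 59) := by ring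
  rw [h]
  exact Nat.le_add_right _ _

theorem f4_big3 {a : ℕ} (ha : 4 ≤ a) :
    2 * (9 * (a + 2) ^ 4) ≤ ((a + 1) ^ 4 + 1) * ((a + 1) ^ 2 * (a * (a + 2)) + 1) := by
  have h1 : (a + 2) ^ 2 ≤ 2 * (a + 1) ^ 2 := by nlinarith
  have h2 : (a + 2) ^ 4 ≤ 4 * (a + 1) ^ 4 := by
    calc (a + 2) ^ 4 = ((a + 2) ^ 2) ^ 2 := by ring
      _ ≤ (2 * (a + 1) ^ 2) ^ 2 := pow_mul_le h1
      _ = _ := by ring
  have h3 : 72 ≤ (a + 1) ^ 2 * (a * (a + 2)) := by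
    have h4 : 5 ^ 2 ≤ (a + 1) ^ 2 := pow_mul_le (by omega)
    have h5 : 4 * 6 ≤ a * (a + 2) := Nat.mul_le_mul ha (by omega)
    have := Nat.mul_le_mul h4 h5
    omega
  calc 2 * (9 * (a + 2) ^ 4) ≤ 2 * (9 * (4 * (a + 1) ^ 4)) := by omega
    _ = (a + 1) ^ 4 * 72 := by ring
    _ ≤ ((a + 1) ^ 4 + 1) * ((a + 1) ^ 2 * (a * (a + 2)) + 1) :=
        Nat.mul_le_mul (Nat.le_add_right _ _) (h3.trans (Nat.le_add_right _ _))

end Cfsg.Agent.H622.KW
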